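import Cfsg.Agent.Lib.CharApps.ClassSizes.Basic
import Cfsg.Agent.Lib.Chars.Burnside

/-!
# Simple groups with three noncentral class sizes: elementary facts
-/

set_option autoImplicit false
set_option linter.style.haveILetI false

namespace CfsgLib.ConjRankThree

open CharApps.ClassSizes

universe u

variable {G : Type u} [Group G]

local notation "C(" g ")" => Subgroup.centralizer ({g} : Set G)

/-- The order of the centraliser. -/
noncomputable abbrev cord (g : G) : ℕ := Nat.card C(g)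

/-- The centraliser of `w` is minimal and maximal among centralisers of non-identity elements. -/
def Rigid (w : G) : Prop :=
  w ≠ 1 ∧ (∀ u : G, u ≠ 1 → C(w) ≤ C(u) → C(u) = C(w)) ∧ ∀ u : G, u ≠ 1 → C(u) ≤ C(w) → C(u) = C(w)

theorem comm_of_orderOf {H : Subgroup G}
    (h : ∀ a ∈ H, ∀ b ∈ H, Commute a b) : IsMulCommutative H :=
  ⟨⟨fun a b => Subtype.ext (h a a.2 b b.2)⟩⟩

variable [Finite G]

/-- A rigid centraliser of an element of prime order is abelian or a `p`-group. -/
theorem comm_or_isPGroup {p : ℕ} (hp : p.Prime) {t : G} (ht : orderOf t = p) (hr : Rigid t) :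
    IsMulCommutative C(t) ∨ IsPGroup p C(t) := by
  haveI := Fact.mk hp
  by_cases hall : ∀ v ∈ C(t), ∃ k, orderOf v = p ^ k
  · right
    refine IsPGroup.iff_orderOf.2 fun v => ?_
    obtain ⟨k, hk⟩ := hall v v.2
    exact ⟨k, (Subgroup.orderOf_coe v).symm.trans hk⟩
  left
  push Not at hall
  obtain ⟨v₀, hv₀, hv₀p⟩ := hall
  have hp' : ∀ u ∈ C(t), u ≠ 1 → (orderOf t).Coprime (orderOf u) → C(u) = C(t) := by
    intro u hu hu1 hco
    have hm := C_mul_eq (mem_C.1 hu).symm hco
    have hne : t * u ≠ 1 := fun e => hu1 (by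
      rw [eq_inv_of_mul_eq_one_right e]
      rw [eq_inv_of_mul_eq_one_right e, orderOf_inv, Nat.coprime_self, ht] at hco
      exact absurd hco hp.one_lt.ne')
    have he := hr.2.2 _ hne (hm.le.trans inf_le_left)
    exact hr.2.1 u hu1 (inf_eq_left.1 (hm.symm.trans he))
  obtain ⟨q, hq, hqd, hqp⟩ : ∃ q, q.Prime ∧ q ∣ orderOf v₀ ∧ q ≠ p := by
    by_contra hno
    push Not at hno
    obtain ⟨k, hk⟩ : ∃ k, orderOf v₀ = p ^ k := ⟨_, Nat.eq_prime_pow_of_unique_prime_dvd
      (orderOf_pos v₀).ne' fun {d} hd hdd => hno d hd hdd⟩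
    exact hv₀p k hk
  have hu₀ : orderOf (v₀ ^ (orderOf v₀ / q)) = q :=
    orderOf_pow_orderOf_div (orderOf_pos v₀).ne' hqd
  set u₀ := v₀ ^ (orderOf v₀ / q)
  have hu₀1 : u₀ ≠ 1 := fun e => hq.one_lt.ne' (by rw [← hu₀, e, orderOf_one])
  have hu₀C : C(u₀) = C(t) := hp' u₀ (pow_mem hv₀ _) hu₀1 (by
    rw [ht, hu₀]; exact (Nat.coprime_primes hp hq).2 hqp.symm)
  have hle : C(t) ≤ Subgroup.centralizer (C(t) : Set G) := by
    refine le_of_primes fun r hr' _ u hu ⟨e, he⟩ => ?_
    by_cases hu1 : u = 1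
    · rw [hu1]; exact one_mem _
    suffices C(t) ≤ C(u) from
      Subgroup.mem_centralizer_iff.2 fun g hg => (mem_C.1 (this hg)).eq
    by_cases hrp : r = p
    · have hco : (orderOf u₀).Coprime (orderOf u) := by
        rw [hu₀, he, hrp]
        exact ((Nat.coprime_primes hq hp).2 hqp).pow_right e
      have hm := C_mul_eq (show Commute u₀ u from (mem_C.1 (hu₀C.symm ▸ hu)).symm) hco
      have hne : u₀ * u ≠ 1 := fun e1 => hu1 (by
        rw [eq_inv_of_mul_eq_one_right e1, orderOf_inv, Nat.coprime_self, hu₀] at hco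
        exact absurd hco hq.one_lt.ne')
      have heq := hr.2.2 _ hne (hm.le.trans (inf_le_left.trans hu₀C.le))
      rw [hm, hu₀C] at heq
      exact inf_eq_left.1 heq
    · exact (hp' u hu hu1 (by
        rw [ht, he]; exact ((Nat.coprime_primes hp hr').2 (Ne.symm hrp)).pow_right e)).ge
  exact comm_of_orderOf fun a ha b hb =>
    ((Subgroup.mem_centralizer_iff.1 (hle hb)) a ha)

/-- If all centralisers are minimal and maximal, centralisers of involutions are abelian. -/
theorem comm_of_all_rigid (hr : ∀ u : G, u ≠ 1 → Rigid u) {t : G} (ht : orderOf t = 2) :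
    IsMulCommutative C(t) := by
  haveI := Fact.mk Nat.prime_two
  have hne : ∀ {u : G}, orderOf u = 2 → u ≠ 1 := fun {u} h e => by simp [e] at h
  rcases comm_or_isPGroup Nat.prime_two ht (hr t (hne ht)) with h | hQ
  · exact h
  by_contra hcom
  obtain ⟨v, hv, hv2⟩ : ∃ v ∈ C(t), v ^ 2 ≠ 1 := by
    by_contra hno
    push Not at hno
    refine hcom (comm_of_orderOf fun a ha b hb => ?_)
    have hi : ∀ x ∈ C(t), x⁻¹ = x := fun x hx =>
      inv_eq_of_mul_eq_one_right (by rw [← sq]; exact hno x hx)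
    have h3 := hi _ (mul_mem ha hb)
    rw [mul_inv_rev, hi a ha, hi b hb] at h3
    exact h3.symm
  obtain ⟨k, hk⟩ := IsPGroup.iff_orderOf.1 hQ ⟨v, hv⟩
  rw [Subgroup.orderOf_mk] at hk
  obtain ⟨k, rfl⟩ : ∃ k', k = k' + 2 := by
    refine ⟨k - 2, ?_⟩
    by_contra hlt
    have hk2 : k = 0 ∨ k = 1 := by omega
    refine hv2 (orderOf_dvd_iff_pow_eq_one.1 ?_)
    rcases hk2 with rfl | rfl <;> simp [hk]
  have hw : orderOf (v ^ 2 ^ k) = 4 := by
    rw [orderOf_pow_of_dvd (by positivity) (hk ▸ pow_dvd_pow 2 (by omega)), hk,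
      Nat.pow_div (by omega) two_pos]
    simp
  set w := v ^ 2 ^ k with hwdef
  have hj : orderOf (w ^ 2) = 2 := by
    rw [orderOf_pow_of_dvd two_ne_zero (by rw [hw]; norm_num), hw]
  set j := w ^ 2 with hjdef
  have hj1 : j ≠ 1 := hne hj
  have hjt : j ∈ C(t) := pow_mem (pow_mem hv _) _
  have hjnc : ¬ IsMulCommutative C(j) := fun hc => hcom (by
    have hle : C(j) ≤ C(t) := fun g hg => mem_C.2
      (congrArg Subtype.val (hc.is_comm.comm ⟨g, hg⟩ ⟨t, mem_C.2 (mem_C.1 hjt).symm⟩))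
    rw [← (hr t (hne ht)).2.2 j hj1 hle]
    exact hc)
  have hR := (comm_or_isPGroup Nat.prime_two hj (hr j hj1)).resolve_left hjnc
  have hw1 : w ≠ 1 := fun e => by simp [e] at hw
  have hwj : C(w) = C(j) := (hr j hj1).2.2 w hw1 (C_le_C_pow w 2)
  have hinv : ∀ i ∈ C(j), orderOf i = 2 → C(i) = C(j) := by
    intro i hi hio
    have hc : Commute w i := (mem_C.1 (hwj.symm ▸ hi)).symm
    have hsq : (w * i) ^ 2 = j := by
      rw [hc.mul_pow, show i ^ 2 = 1 from by rw [← hio, pow_orderOf_eq_one], mul_one]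
    have hne1 : w * i ≠ 1 := fun e => hj1 (by rw [← hsq, e, one_pow])
    have he := (hr j hj1).2.2 _ hne1 (hsq ▸ C_le_C_pow (w * i) 2)
    refine (hr j hj1).2.1 i (hne hio) fun g hg => mem_C.2 ?_
    have h1 : Commute g (w * i) := mem_C.1 (he.symm ▸ hg)
    have h2 : Commute g w := mem_C.1 (hwj.symm ▸ hg)
    simpa using h2.inv_right.mul_right h1
  refine hjnc (comm_of_orderOf fun a ha b hb => ?_)
  by_cases hb1 : b = 1
  · rw [hb1]; exact Commute.one_right a
  obtain ⟨m, hm⟩ := IsPGroup.iff_orderOf.1 hR ⟨b, hb⟩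
  rw [Subgroup.orderOf_mk] at hm
  have hm2 : 2 ∣ orderOf b := by
    cases m with
    | zero => exact absurd (orderOf_eq_one_iff.1 (by simpa using hm)) hb1
    | succ m => exact hm ▸ dvd_pow_self 2 (Nat.succ_ne_zero m)
  have hio := orderOf_pow_orderOf_div (orderOf_pos b).ne' hm2
  have hi := hinv _ (pow_mem hb _) hio
  have hbj : C(b) = C(j) := (hr j hj1).2.2 b hb1 ((C_le_C_pow b _).trans hi.le)
  exact mem_C.1 (hbj.symm ▸ ha)

/-- An element whose centraliser order is incomparable to the others is rigid. -/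
theorem rigid_of_antichain {w : G} (hw : w ≠ 1)
    (h : ∀ u : G, u ≠ 1 → (cord w ∣ cord u ∨ cord u ∣ cord w) → cord u = cord w) : Rigid w :=
  ⟨hw, fun u hu hle => (Subgroup.eq_of_le_of_card_ge hle
      (h u hu (Or.inl (Subgroup.card_dvd_of_le hle))).le).symm,
    fun u hu hle => Subgroup.eq_of_le_of_card_ge hle
      (h u hu (Or.inr (Subgroup.card_dvd_of_le hle))).ge⟩

omit [Finite G] in
theorem cord_eq_of_isConj {a b : G} (h : IsConj a b) : cord a = cord b := by
  obtain ⟨c, rfl⟩ := isConj_iff.1 h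
  refine Nat.card_congr ((MulAut.conj c).toEquiv.subtypeEquiv fun g => ?_)
  show g ∈ C(a) ↔ c * g * c⁻¹ ∈ C(c * a * c⁻¹)
  rw [mem_C, mem_C]
  exact Commute.conj_iff c |>.symm

/-- Translating a class by a class gives a larger or smaller class. -/
theorem cord_mul_ne [IsSimpleGroup G] {x w : G} (hx : x ≠ 1) (hw : w ∉ Subgroup.center G)
    (hall : ∀ g h : G, IsConj (x * w) (g * x * g⁻¹ * (h * w * h⁻¹))) : cord (x * w) ≠ cord x := by
  intro he
  classical
  have hcard : Nat.card {y : G // IsConj x y} = Nat.card {y : G // IsConj (x * w) y} := by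
    refine Nat.eq_of_mul_eq_mul_right (Nat.card_pos (α := C(x))) ?_
    rw [Chars.card_isConj_mul_card_centralizer]
    exact ((Chars.card_isConj_mul_card_centralizer (x * w)).symm).trans (by
      show _ * cord (x * w) = _; rw [he])
  let T : G → {y : G // IsConj x y} → {y : G // IsConj (x * w) y} := fun h y =>
    ⟨y.1 * (h * w * h⁻¹), by
      obtain ⟨g, hg⟩ := isConj_iff.1 y.2
      exact hg ▸ hall g h⟩
  have hT : ∀ h, Function.Bijective (T h) := fun h =>
    (Nat.bijective_iff_injective_and_card _).2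
      ⟨fun a b hab => Subtype.ext (mul_right_cancel (congrArg Subtype.val hab)), hcard⟩
  let M : Submonoid G :=
    { carrier := {g | ∀ y, IsConj x y → IsConj x (y * g)}
      one_mem' := fun y hy => by rwa [mul_one]
      mul_mem' := fun {a b} ha hb y hy => by rw [← mul_assoc]; exact hb _ (ha y hy) }
  let K : Subgroup G :=
    { M with
      inv_mem' := fun {a} ha => by
        obtain ⟨k, hk⟩ : ∃ k : ℕ, a⁻¹ = a ^ k :=
          ⟨orderOf a - 1, inv_eq_of_mul_eq_one_right (by
            rw [← pow_succ', Nat.sub_add_cancel (orderOf_pos a), pow_orderOf_eq_one])⟩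
        exact hk ▸ M.pow_mem ha k }
  have hKn : K.Normal := ⟨fun g hg h y hy => by
    have h1 : IsConj x (h⁻¹ * y * h) := hy.trans (isConj_iff.2 ⟨h⁻¹, by simp⟩)
    refine (hg _ h1).trans (isConj_iff.2 ⟨h, ?_⟩)
    group⟩
  obtain ⟨h, hh⟩ : ∃ h : G, h * w * h⁻¹ ≠ w := by
    by_contra hno
    push Not at hno
    exact hw (Subgroup.mem_center_iff.2 fun g => mul_inv_eq_iff_eq_mul.1 (hno g))
  have hk : h * w * h⁻¹ * w⁻¹ ∈ K := fun y hy => by
    obtain ⟨y', hy'⟩ := (hT 1).surjective (T h ⟨y, hy⟩)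
    have := congrArg Subtype.val hy'
    simp only [T, one_mul, inv_one, mul_one] at this
    convert y'.2 using 1
    rw [← mul_assoc, ← this, mul_inv_cancel_right]
  rcases IsSimpleGroup.eq_bot_or_eq_top_of_normal K hKn with hb | htop
  · rw [hb, Subgroup.mem_bot, mul_inv_eq_one] at hk
    exact hh hk
  · have := (htop.symm ▸ Subgroup.mem_top x⁻¹ : x⁻¹ ∈ K) x (IsConj.refl x)
    rw [mul_inv_cancel] at this
    exact hx (isConj_one_left.1 this)

end CfsgLib.ConjRankThree
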