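import Cfsg.Agent.Lib.CharApps.ClassProduct
import Cfsg.Agent.Lib.Chars.Virtual
import Cfsg.Agent.Lib.Chars.Degree

/-!
# A centraliser bound at a product of two classes

`A` is abelian and is the centraliser of each of its non-identity elements, and `x ^ G * u ^ G`
is a single class for all non-identity `u` in `A`.  Then only the exceptional constant
characters are nonzero at `x`, so the centraliser of `x * u` has order at most `[N(A) : A] + 1`.
-/

set_option autoImplicit false
set_option linter.style.haveILetI false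

namespace CfsgLib.ConjRankThree

open Cfsg CfsgLib.Chars
open scoped ComplexConjugate

universe u

variable {G : Type u} [Group G] [Fintype G] {A : Subgroup G}

local notation "C(" g ")" => Subgroup.centralizer ({g} : Set G)
local notation "N(" A ")" => Subgroup.normalizer (A : Set G)

variable (hTI : ∀ u ∈ A, u ≠ 1 → Subgroup.centralizer ({u} : Set G) = A)
include hTI

omit [Fintype G] in
theorem A_comm (a b : A) : a * b = b * a := by
  by_cases ha : (a : G) = 1
  · rw [show a = 1 from Subtype.ext ha, one_mul, mul_one]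
  · have hb : (b : G) ∈ C((a : G)) := (hTI _ a.2 ha).symm ▸ b.2
    exact Subtype.ext (Subgroup.mem_centralizer_singleton_iff.1 hb).symm

omit [Fintype G] in
theorem centralizer_conj_eq {v : G} (x : G) (hv : v ∈ A) (hv1 : v ≠ 1) {g : G} :
    g ∈ C(x⁻¹ * v * x) ↔ x * g * x⁻¹ ∈ A := by
  rw [← hTI v hv hv1, Subgroup.mem_centralizer_singleton_iff,
    Subgroup.mem_centralizer_singleton_iff]
  constructor <;> intro h
  · calc x * g * x⁻¹ * v = x * (g * (x⁻¹ * v * x)) * x⁻¹ := by group
      _ = x * (x⁻¹ * v * x * g) * x⁻¹ := by rw [h]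
      _ = v * (x * g * x⁻¹) := by group
  · calc g * (x⁻¹ * v * x) = x⁻¹ * (x * g * x⁻¹ * v) * x := by group
      _ = x⁻¹ * (v * (x * g * x⁻¹)) * x := by rw [h]
      _ = x⁻¹ * v * x * g := by group

omit [Fintype G] in
/-- Non-identity elements of `A` are fused only in `N(A)`. -/
theorem mem_normalizer_of_fusion {v x : G} (hv : v ∈ A) (hv1 : v ≠ 1) (hm : x⁻¹ * v * x ∈ A) :
    x ∈ N(A) := by
  have hne : x⁻¹ * v * x ≠ 1 := fun e => hv1 (by
    calc v = x * (x⁻¹ * v * x) * x⁻¹ := by group
      _ = 1 := by rw [e]; group)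
  refine Subgroup.mem_normalizer_iff.2 fun g => ?_
  rw [← centralizer_conj_eq hTI x hv hv1, hTI _ hm hne]

/-- Induced functions vanishing at `1` vanish where the centraliser has another order. -/
theorem indFun_eq_zero (h : A → ℂ) (h1 : h 1 = 0) {y : G}
    (hy : Nat.card C(y) ≠ Nat.card A) : indFun A h y = 0 := by
  rw [indFun_apply, Finset.sum_eq_zero (fun x _ => ?_), mul_zero]
  by_cases hm : x⁻¹ * y * x ∈ A
  · rw [extendByZero_of_mem A h hm]
    by_cases he : x⁻¹ * y * x = 1
    · rw [show (⟨_, hm⟩ : A) = 1 from Subtype.ext he, h1]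
    · refine absurd ?_ hy
      refine Nat.card_congr ((MulAut.conj x⁻¹).toEquiv.subtypeEquiv fun g => ?_)
      have hiff := centralizer_conj_eq hTI x⁻¹ hm he (g := x⁻¹ * g * x)
      simp only [inv_inv] at hiff
      show g ∈ C(y) ↔ x⁻¹ * g * x⁻¹⁻¹ ∈ A
      rw [inv_inv]
      have hcc := centralizer_conj_eq hTI x⁻¹ hm he (g := g)
      rw [inv_inv, show x * (x⁻¹ * y * x) * x⁻¹ = y by group] at hcc
      exact hcc
  · exact extendByZero_of_not_mem _ _ hm

omit hTI in
/-- Conjugation of `A` by an element of its normaliser. -/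
noncomputable def conjA {x : G} (hx : x ∈ N(A)) : A →* A where
  toFun v := ⟨x⁻¹ * v * x, by
    simpa using (Subgroup.mem_normalizer_iff.1 (inv_mem hx) (v : G)).1 v.2⟩
  map_one' := Subtype.ext (by simp)
  map_mul' a b := Subtype.ext (by simp [mul_assoc])

omit hTI in
theorem conjA_bijective {x : G} (hx : x ∈ N(A)) : Function.Bijective (conjA hx) := by
  refine Finite.injective_iff_bijective.1 fun a b hab => Subtype.ext ?_
  have := congrArg (fun t : A => (t : G)) hab
  exact mul_left_cancel (mul_right_cancel this)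

/-- Twist of a function on `A` by an element of the normaliser. -/
theorem twist_irr {x : G} (hx : x ∈ N(A)) (θ : IrrCharacter A) :
    ∃ η : IrrCharacter A, (η : A → ℂ) = (fun v => (θ : A → ℂ) (conjA hx v)) ∧
      (x ∈ A → η = θ) ∧ (x ∉ A → θ ≠ principal A → η ≠ θ) ∧ (η = principal A ↔ θ = principal A) := by
  refine ⟨⟨fun v => (θ : A → ℂ) (conjA hx v),
    isIrrCharacter_comp (conjA hx) (conjA_bijective hx).surjective θ.2⟩, rfl, fun hxA => ?_,
    fun hxA hθ he => hθ ?_, ?_⟩
  · refine Subtype.ext (funext fun v => ?_)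
    show (θ : A → ℂ) (conjA hx v) = (θ : A → ℂ) v
    refine congrArg _ (Subtype.ext ?_)
    have := congrArg (fun t : A => (t : G)) (A_comm hTI v ⟨x, hxA⟩)
    simp only [Subgroup.coe_mul] at this
    show x⁻¹ * (v : G) * x = v
    rw [mul_assoc, this, inv_mul_cancel_left]
  · obtain ⟨lam, hlam⟩ := exists_hom_of_degree_one (isCharacter_of_irr θ.2)
      (irr_abelian_degree (A_comm hTI) θ.2)
    have hinj : Function.Injective fun v : A => v⁻¹ * conjA hx v := by
      intro v w hvw
      by_contra hne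
      have h1 : conjA hx (w⁻¹ * v) = w⁻¹ * v := by
        have : conjA hx v = v * (w⁻¹ * conjA hx w) := by
          simp only at hvw
          rw [← hvw, mul_inv_cancel_left]
        rw [map_mul, map_inv, this]
        rw [A_comm hTI v, A_comm hTI w⁻¹ (conjA hx w), mul_assoc (conjA hx w),
          inv_mul_cancel_left]
      have h2 : ((w⁻¹ * v : A) : G) ≠ 1 := fun e => hne (inv_mul_eq_one.1 (Subtype.ext e)).symm
      refine hxA ((hTI _ (w⁻¹ * v).2 h2) ▸ Subgroup.mem_centralizer_singleton_iff.2 ?_)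
      have h3 : x⁻¹ * ((w⁻¹ * v : A) : G) * x = ((w⁻¹ * v : A) : G) :=
        congrArg (fun t : A => (t : G)) h1
      calc x * ((w⁻¹ * v : A) : G) = x * (x⁻¹ * ((w⁻¹ * v : A) : G) * x) := by rw [h3]
        _ = _ := by group
    refine Subtype.ext (funext fun a => ?_)
    obtain ⟨v, rfl⟩ := (Finite.injective_iff_bijective.1 hinj).surjective a
    have hv : (lam (conjA hx v) : ℂ) = lam v := by
      have := congrFun (congrArg Subtype.val he) v
      simp only [hlam] at this
      exact this
    rw [hlam, principal_apply]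
    show (lam (v⁻¹ * conjA hx v) : ℂ) = 1
    rw [map_mul, map_inv, Units.ext hv, inv_mul_cancel, Units.val_one]
  · refine ⟨fun he => Subtype.ext (funext fun a => ?_),
      fun he => Subtype.ext (funext fun a => ?_)⟩
    · obtain ⟨v, rfl⟩ := (conjA_bijective hx).surjective a
      exact congrFun (congrArg Subtype.val he) v
    · show (θ : A → ℂ) (conjA hx a) = _
      rw [he]; rfl

variable [Fintype A]

open Classical in
/-- The norm of an induced function vanishing at `1`. -/
theorem inner_ind_self (h : A → ℂ) (h1 : h 1 = 0) :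
    classInner (indFun A h) (indFun A h) = (Nat.card A : ℂ)⁻¹ *
      ∑ x : G, if hx : x ∈ N(A) then classInner h (fun v => h (conjA hx v)) else 0 := by
  rw [inner_indFun A h (isClassFunction_indFun A h), inner_def]
  have key : ∀ x : G, (if hx : x ∈ N(A) then classInner h (fun v => h (conjA hx v)) else 0) =
      (Nat.card A : ℂ)⁻¹ * ∑ v : A, h v * conj (extendByZero A h (x⁻¹ * v * x)) := by
    intro x
    by_cases hx : x ∈ N(A)
    · rw [dif_pos hx, inner_def]
      refine congrArg _ (Finset.sum_congr rfl fun v _ => ?_)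
      rw [← extendByZero_coe A h (conjA hx v)]
      rfl
    · rw [dif_neg hx, Finset.sum_eq_zero (fun v _ => ?_), mul_zero]
      by_cases hv : (v : G) = 1
      · rw [show v = 1 from Subtype.ext hv, h1, zero_mul]
      · rw [extendByZero_of_not_mem _ _
          (fun hm => hx (mem_normalizer_of_fusion hTI v.2 hv hm)), map_zero, mul_zero]
  rw [Finset.sum_congr rfl (fun x _ => key x), ← Finset.mul_sum, Finset.sum_comm]
  simp only [indFun_apply, Finset.mul_sum, map_sum, map_mul, map_inv₀, map_natCast]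
  refine Finset.sum_congr rfl fun v _ => Finset.sum_congr rfl fun x _ => ?_
  ring

omit hTI in
theorem re_inner_pm (a b : IrrCharacter A) :
    0 ≤ (classInner (a : A → ℂ) b).re ∧ (classInner (a : A → ℂ) b).re ≤ 1 := by
  classical
  rw [inner_irr]
  split_ifs <;> simp

/-- The norm of the induced difference of two nonprincipal linear characters. -/
theorem norm_diff_le (θ θ' : IrrCharacter A) (hθ : θ ≠ principal A) (hθ' : θ' ≠ principal A)
    (hne : θ ≠ θ') :
    (classInner (indFun A ((θ : A → ℂ) - (θ' : A → ℂ))) (indFun A ((θ : A → ℂ) - (θ' : A → ℂ)))).re ≤ 2 := by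
  classical
  have h1 : ((θ : A → ℂ) - (θ' : A → ℂ)) 1 = 0 := by
    simp [irr_abelian_degree (A_comm hTI) θ.2, irr_abelian_degree (A_comm hTI) θ'.2]
  have hterm : ∀ x : G, (if hx : x ∈ N(A) then classInner ((θ : A → ℂ) - (θ' : A → ℂ))
      (fun v => ((θ : A → ℂ) - (θ' : A → ℂ)) (conjA hx v)) else 0).re ≤ if x ∈ A then 2 else 0 := by
    intro x
    by_cases hx : x ∈ N(A)
    · rw [dif_pos hx]
      obtain ⟨η, hη, hηA, hηn, -⟩ := twist_irr hTI hx θ
      obtain ⟨η', hη', hη'A, hη'n, -⟩ := twist_irr hTI hx θ'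
      rw [show (fun v => ((θ : A → ℂ) - (θ' : A → ℂ)) (conjA hx v)) = (η : A → ℂ) - (η' : A → ℂ) by
        rw [hη, hη']; rfl, Chars.inner_sub_left, Chars.inner_sub_right, Chars.inner_sub_right]
      by_cases hxA : x ∈ A
      · rw [hηA hxA, hη'A hxA, if_pos hxA, inner_irr_self, inner_irr_self, inner_irr_ne hne,
          inner_irr_ne hne.symm]
        norm_num
      · rw [if_neg hxA, inner_irr_ne (hηn hxA hθ).symm, inner_irr_ne (hη'n hxA hθ').symm]
        have := (re_inner_pm θ η').1
        have := (re_inner_pm θ' η).1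
        simp only [Complex.sub_re, Complex.zero_re]
        linarith
    · rw [dif_neg hx, if_neg (fun h => hx (Subgroup.le_normalizer h))]
      simp
  rw [inner_ind_self hTI _ h1, show (Nat.card A : ℂ)⁻¹ = ((Nat.card A : ℝ)⁻¹ : ℝ) by
    push_cast; rfl, Complex.re_ofReal_mul, Complex.re_sum]
  refine (mul_le_mul_of_nonneg_left (Finset.sum_le_sum fun x _ => hterm x) (by positivity)).trans ?_
  rw [← Finset.sum_filter, Finset.sum_const, nsmul_eq_mul, ← Fintype.card_subtype,
    ← Nat.card_eq_fintype_card]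
  refine le_of_eq ?_
  show (Nat.card A : ℝ)⁻¹ * ((Nat.card A : ℝ) * 2) = 2
  have : (0 : ℝ) < Nat.card A := Nat.cast_pos.2 Nat.card_pos
  field_simp

/-- The norm of the induced difference with the principal character. -/
theorem norm_one_sub_le (θ : IrrCharacter A) (hθ : θ ≠ principal A) :
    (classInner (indFun A ((principal A : A → ℂ) - (θ : A → ℂ))) (indFun A ((principal A : A → ℂ) - (θ : A → ℂ)))).re ≤
      (A.relIndex N(A) : ℝ) + 1 := by
  classical
  have h1 : ((principal A : A → ℂ) - (θ : A → ℂ)) 1 = 0 := by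
    simp [irr_abelian_degree (A_comm hTI) θ.2, principal_apply]
  have hterm : ∀ x : G, (if hx : x ∈ N(A) then classInner ((principal A : A → ℂ) - (θ : A → ℂ))
      (fun v => ((principal A : A → ℂ) - (θ : A → ℂ)) (conjA hx v)) else 0).re ≤
      (if x ∈ N(A) then 1 else 0) + if x ∈ A then 1 else 0 := by
    intro x
    by_cases hx : x ∈ N(A)
    · rw [dif_pos hx, if_pos hx]
      obtain ⟨η, hη, hηA, hηn, hη1⟩ := twist_irr hTI hx θ
      have hne : η ≠ principal A := fun e => hθ (hη1.1 e)
      rw [show (fun v => ((principal A : A → ℂ) - (θ : A → ℂ)) (conjA hx v)) =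
        (principal A : A → ℂ) - (η : A → ℂ) by rw [hη]; rfl, Chars.inner_sub_left, Chars.inner_sub_right, Chars.inner_sub_right,
        inner_irr_self, inner_irr_ne hne.symm, inner_irr_ne hθ]
      by_cases hxA : x ∈ A
      · rw [hηA hxA, if_pos hxA, inner_irr_self]
        norm_num
      · rw [if_neg hxA, inner_irr_ne (hηn hxA hθ).symm]
        simp
    · rw [dif_neg hx, if_neg hx, if_neg (fun h => hx (Subgroup.le_normalizer h))]
      simp
  rw [inner_ind_self hTI _ h1, show (Nat.card A : ℂ)⁻¹ = ((Nat.card A : ℝ)⁻¹ : ℝ) by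
    push_cast; rfl, Complex.re_ofReal_mul, Complex.re_sum]
  refine (mul_le_mul_of_nonneg_left (Finset.sum_le_sum fun x _ => hterm x) (by positivity)).trans ?_
  rw [Finset.sum_add_distrib, Finset.sum_boole, Finset.sum_boole, ← Fintype.card_subtype,
    ← Fintype.card_subtype, ← Nat.card_eq_fintype_card, ← Nat.card_eq_fintype_card]
  refine le_of_eq ?_
  show (Nat.card A : ℝ)⁻¹ * ((Nat.card N(A) : ℝ) + (Nat.card A : ℝ)) = _
  have hc : Nat.card A * A.relIndex N(A) = Nat.card N(A) := by
    rw [mul_comm, ← Nat.card_congr (Subgroup.subgroupOfEquivOfLe (Subgroup.le_normalizer (H := A))).toEquiv]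
    exact (A.subgroupOf N(A)).index_mul_card
  rw [← hc]
  have : (0 : ℝ) < Nat.card A := Nat.cast_pos.2 Nat.card_pos
  push_cast
  field_simp

/-- Only characters constant on the non-identity elements of `A` are nonzero at `x`. -/
theorem multiplicity_eq {x : G} (hx : Nat.card C(x) ≠ Nat.card A)
    (hd : ∀ u ∈ A, u ≠ 1 → Nat.card C(x * u) ≠ Nat.card A)
    (hprod : ∀ u ∈ A, u ≠ 1 → ∀ h : G, IsConj (x * u) (x * (h * u * h⁻¹)))
    (χ : IrrCharacter G) (hχ : (χ : G → ℂ) x ≠ 0) (θ θ' : IrrCharacter A)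
    (hθ : θ ≠ principal A) (hθ' : θ' ≠ principal A) :
    classInner (fun v : A => (χ : G → ℂ) v) θ = classInner (fun v : A => (χ : G → ℂ) v) θ' := by
  classical
  by_cases he : θ = θ'
  · rw [he]
  by_contra hm
  set h : A → ℂ := (θ : A → ℂ) - (θ' : A → ℂ) with hh
  have h1 : h 1 = 0 := by
    simp [hh, irr_abelian_degree (A_comm hTI) θ.2, irr_abelian_degree (A_comm hTI) θ'.2]
  have hgen : IsGeneralizedCharacter G (indFun A h) :=
    isGeneralized_indFun A ⟨_, _, isCharacter_of_irr θ.2, isCharacter_of_irr θ'.2, rfl⟩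
  have hf1 : indFun A h 1 = 0 := by rw [indFun_one_apply, h1, mul_zero]
  have hfχ : classInner (χ : G → ℂ) (indFun A h) ≠ 0 := by
    rw [inner_indFun_right A h (isClassFunction_irr χ), hh, Chars.inner_sub_right]
    exact sub_ne_zero.2 hm
  haveI := irrFintype G
  obtain ⟨hcl, hmul⟩ := isGeneralized_iff_inner.mp hgen
  choose m hmm using hmul
  have hsum : classInner (indFun A h) (indFun A h) = ((∑ ψ, m ψ * m ψ : ℤ) : ℂ) := by
    rw [inner_eq_sum hcl]
    simp only [hmm, map_intCast]
    push_cast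
    rfl
  have hle : (∑ ψ, m ψ * m ψ : ℤ) ≤ 2 := by
    have := norm_diff_le hTI θ θ' hθ hθ' he
    rw [← hh, hsum, Complex.intCast_re] at this
    exact_mod_cast this
  have hpos : 0 < (∑ ψ, m ψ * m ψ : ℤ) := by
    have : m χ ≠ 0 := fun e => hfχ (by
      rw [← inner_conj, hmm χ, e, Int.cast_zero, map_zero])
    exact lt_of_lt_of_le (mul_self_pos.2 this)
      (Finset.single_le_sum (fun i _ => mul_self_nonneg (m i)) (Finset.mem_univ χ))
  obtain hn | hn : (∑ ψ, m ψ * m ψ : ℤ) = 1 ∨ (∑ ψ, m ψ * m ψ : ℤ) = 2 := by omega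
  · rw [hn, Int.cast_one] at hsum
    rcases irr_or_neg_irr_of_norm_one hgen hsum with hi | hi
    · exact irr_degree_ne_zero hi hf1
    · exact irr_degree_ne_zero hi (by rw [Pi.neg_apply, hf1, neg_zero])
  · rw [hn, Int.cast_ofNat] at hsum
    obtain ⟨a, b, hab, hf⟩ := exists_diff_of_norm_two hgen hsum hf1
    have hev : ∀ y : G, Nat.card C(y) ≠ Nat.card A → (a : G → ℂ) y = (b : G → ℂ) y := fun y hy => by
      have := congrFun hf y
      rw [indFun_eq_zero hTI h h1 hy, Pi.sub_apply] at this
      exact sub_eq_zero.1 this.symm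
    have hdeg : (a : G → ℂ) 1 = (b : G → ℂ) 1 := sub_eq_zero.1 (by
      have := congrFun hf 1
      rw [hf1, Pi.sub_apply] at this
      exact this.symm)
    have hax : (a : G → ℂ) x ≠ 0 := by
      intro h0
      rw [hf, Chars.inner_sub_right] at hfχ
      by_cases hca : χ = a
      · exact hχ (hca ▸ h0)
      · by_cases hcb : χ = b
        · exact hχ (hcb ▸ ((hev x hx).symm.trans h0))
        · rw [inner_irr_ne hca, inner_irr_ne hcb, sub_zero] at hfχ
          exact hfχ rfl
    have hzero : ∀ v : A, indFun A h v = 0 := by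
      intro v
      by_cases hv : (v : G) = 1
      · rw [hv, hf1]
      rw [hf, Pi.sub_apply, sub_eq_zero]
      refine mul_left_cancel₀ hax ?_
      rw [← CharApps.char_mul_of_classProd x (v : G) (hprod _ v.2 hv) a, hev _ (hd _ v.2 hv), hdeg,
        CharApps.char_mul_of_classProd x (v : G) (hprod _ v.2 hv) b, ← hev x hx]
    rw [inner_indFun A h hcl, inner_def] at hsum
    simp [hzero] at hsum

/-- The centraliser of `x * u` is small. -/
theorem card_centralizer_le {x w : G} (hw : w ∈ A) (hw1 : w ≠ 1)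
    (hx : Nat.card C(x) ≠ Nat.card A)
    (hd : ∀ u ∈ A, u ≠ 1 → Nat.card C(x * u) ≠ Nat.card A)
    (hprod : ∀ u ∈ A, u ≠ 1 → ∀ h : G, IsConj (x * u) (x * (h * u * h⁻¹))) :
    Nat.card C(x * w) ≤ A.relIndex N(A) + 1 := by
  classical
  haveI := irrFintype G
  haveI := irrFintype A
  have hwA : (⟨w, hw⟩ : A) ≠ 1 := fun e => hw1 (congrArg Subtype.val e)
  have hreg : ∑ θ : IrrCharacter A, (θ : A → ℂ) ⟨w, hw⟩ = 0 := by
    rw [← show (if (⟨w, hw⟩ : A) = 1 then (Nat.card A : ℂ) else 0) = 0 from if_neg hwA,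
      ← sum_degree_mul]
    exact Finset.sum_congr rfl fun θ _ => by rw [irr_abelian_degree (A_comm hTI) θ.2, one_mul]
  obtain ⟨θ₀, hθ₀⟩ : ∃ θ : IrrCharacter A, θ ≠ principal A := by
    by_contra hno
    push Not at hno
    rw [Finset.sum_eq_single (principal A) (fun θ _ hθ => absurd (hno θ) hθ) (by simp),
      principal_apply] at hreg
    exact one_ne_zero hreg
  set f : G → ℂ := indFun A ((principal A : A → ℂ) - (θ₀ : A → ℂ)) with hf
  have hcl : IsClassFunction G f := isClassFunction_indFun A _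
  have hpoint : ∀ χ : IrrCharacter G, ‖(χ : G → ℂ) (x * w)‖ ^ 2 ≤ ‖classInner f (χ : G → ℂ)‖ ^ 2 := by
    intro χ
    have hmul := CharApps.char_mul_of_classProd x w (hprod w hw hw1) χ
    by_cases hχ : (χ : G → ℂ) x = 0
    · rw [hχ, zero_mul, mul_eq_zero] at hmul
      rw [hmul.resolve_left (irr_degree_ne_zero χ.2), norm_zero, zero_pow two_ne_zero]
      exact sq_nonneg _
    set r : A → ℂ := fun v => (χ : G → ℂ) v with hr
    have hval : (χ : G → ℂ) w = classInner r (principal A) - classInner r θ₀ := by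
      have hd0 := congrFun (classFun_eq_sum (ψ := r)
        (isClassFunction_restrict A (isClassFunction_irr χ))) ⟨w, hw⟩
      rw [Finset.sum_apply] at hd0
      simp only [Pi.smul_apply, smul_eq_mul] at hd0
      rw [show (χ : G → ℂ) w = r ⟨w, hw⟩ from rfl, hd0]
      have hsplit : ∀ θ : IrrCharacter A, classInner r θ * (θ : A → ℂ) ⟨w, hw⟩ =
          classInner r θ₀ * (θ : A → ℂ) ⟨w, hw⟩ +
            if θ = principal A then classInner r (principal A) - classInner r θ₀ else 0 := by
        intro θ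
        by_cases hθ : θ = principal A
        · subst hθ
          rw [if_pos rfl, principal_apply]
          ring
        · rw [if_neg hθ, add_zero, multiplicity_eq hTI hx hd hprod χ hχ θ θ₀ hθ hθ₀]
      rw [Finset.sum_congr rfl (fun θ _ => hsplit θ), Finset.sum_add_distrib, ← Finset.mul_sum,
        hreg, mul_zero, zero_add, Finset.sum_ite_eq' Finset.univ, if_pos (Finset.mem_univ _)]
    have hnorm : ‖(χ : G → ℂ) w‖ = ‖classInner f (χ : G → ℂ)‖ := by
      rw [← Complex.norm_conj (classInner f _), inner_conj, hf,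
        inner_indFun_right A _ (isClassFunction_irr χ), Chars.inner_sub_right, hval]
    rw [← hnorm]
    refine pow_le_pow_left₀ (norm_nonneg _) ?_ 2
    obtain ⟨n, ρ, hρ, hχe⟩ := χ.2
    have hxle := norm_character_le ρ x
    have h1 : (χ : G → ℂ) 1 = ((Module.finrank ℂ (Fin n → ℂ) : ℕ) : ℂ) := by
      rw [← hχe, Representation.char_one]
    have hn : (0 : ℝ) < Module.finrank ℂ (Fin n → ℂ) :=
      Nat.cast_pos.2 (finrank_pos_of_isIrreducible ρ)
    have h2 := congrArg norm hmul
    rw [norm_mul, norm_mul, h1, Complex.norm_natCast] at h2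
    rw [hχe] at hxle
    exact le_of_mul_le_mul_left
      (h2.le.trans (mul_le_mul_of_nonneg_right hxle (norm_nonneg _))) hn
  have hb : (Nat.card C(x * w) : ℝ) = ∑ χ : IrrCharacter G, ‖(χ : G → ℂ) (x * w)‖ ^ 2 := by
    have h := second_orthogonality (x * w) (x * w)
    rw [if_pos (IsConj.refl _)] at h
    simp only [Complex.mul_conj'] at h
    exact_mod_cast h.symm
  have hbessel : ∑ χ : IrrCharacter G, ‖classInner f (χ : G → ℂ)‖ ^ 2 = (classInner f f).re := by
    rw [inner_eq_sum hcl f, Complex.re_sum]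
    refine Finset.sum_congr rfl fun χ _ => ?_
    rw [Complex.mul_conj', ← Complex.ofReal_pow, Complex.ofReal_re]
  have : (Nat.card C(x * w) : ℝ) ≤ (A.relIndex N(A) : ℝ) + 1 := by
    rw [hb]
    refine (Finset.sum_le_sum fun χ _ => hpoint χ).trans ?_
    rw [hbessel]
    exact norm_one_sub_le hTI θ₀ hθ₀
  exact_mod_cast this

end CfsgLib.ConjRankThree
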