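import Cfsg.Agent.Lib.PSL2.SolubilizerEven
import Cfsg.Agent.Lib.Classical.PSLSimple
import Cfsg.Agent.Lib.ConjRankThree.Basic

/-!
# Centraliser orders in `PSL₂(2 ^ m)`
-/

set_option autoImplicit false
set_option linter.style.haveILetI false

namespace CfsgLib.ConjRankThree

open Matrix MulAction CfsgLib.Classical CfsgLib.PSL2 CfsgLib.PSL2.SolubilizerEven
open CharApps.ClassSizes (mem_C)
open scoped LinearAlgebra.Projectivization

variable {F : Type} [Field F] [Finite F] [Fact (Nat.Prime 2)] [CharP F 2]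

local notation "PG" => Matrix.ProjGenLinGroup (Fin 2) F
local notation "PE" => ℙ (Ext2 F 2) (Fin 2 → Ext2 F 2)
local notation "C(" g ")" => Subgroup.centralizer ({g} : Set PG)

theorem cord_involution {u : PG} (hu : u ≠ 1) (h2 : u ^ 2 = 1) : cord u = Nat.card F := by
  classical
  obtain ⟨z, hz, huniq⟩ := rational_of_sq hu h2
  have hsub : (C(u) : Set PG) ⊆ {g | g • embP 2 z = embP 2 z ∧ g ^ 2 = 1} := by
    intro g hg
    have hc : Commute g u := mem_C.1 hg
    have hgz : g • embP 2 z = embP 2 z := huniq _ (smul_fixed_of_commute hc hz)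
    refine ⟨hgz, by_contra fun hg2 => ?_⟩
    obtain ⟨a, b, hab, ha, hb, honly⟩ := two_fixed hg2
    have h1 : g • (u • a) = u • a := smul_fixed_of_commute hc.symm ha
    have h3 : g • (u • b) = u • b := smul_fixed_of_commute hc.symm hb
    rcases honly _ hgz with e | e
    · rcases honly _ h3 with e' | e'
      · exact hab (MulAction.injective u ((show u • a = a from e ▸ hz).trans e'.symm))
      · exact hab ((e.symm.trans (huniq b e').symm))
    · rcases honly _ h1 with e' | e'
      · exact hab ((huniq a e').trans e)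
      · exact hab (MulAction.injective u (e'.trans (show u • b = b from e ▸ hz).symm))
  have hle : cord u ≤ Nat.card F := by
    rw [← card_invol_fix z, cord, ← SetLike.coe_sort_coe, Nat.card_coe_set_eq]
    exact Set.ncard_le_ncard hsub
  refine le_antisymm hle ?_
  have hcl : Nat.card {y : PG // IsConj u y} ≤ (Nat.card F + 1) * (Nat.card F - 1) := by
    rw [← card_invol (F := F), ← Nat.card_coe_set_eq]
    refine Nat.card_le_card_of_injective (fun y => ⟨y.1, ?_⟩) fun a b h =>
      Subtype.ext (congrArg Subtype.val h :)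
    obtain ⟨c, hc⟩ := isConj_iff.1 y.2
    rw [← hc]
    exact ⟨fun e => hu (conj_eq_one_iff.1 e), by rw [conj_pow, h2, mul_one, mul_inv_cancel]⟩
  have h := Chars.card_isConj_mul_card_centralizer u
  rw [card_pgl_two rfl] at h
  have hpos : 0 < (Nat.card F + 1) * (Nat.card F - 1) := by
    have := Finite.one_lt_card (α := F)
    exact Nat.mul_pos (Nat.succ_pos _) (by omega)
  refine Nat.le_of_mul_le_mul_left ?_ hpos
  calc (Nat.card F + 1) * (Nat.card F - 1) * Nat.card F
      = Nat.card {y : PG // IsConj u y} * cord u := by rw [h]; ring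
    _ ≤ _ := Nat.mul_le_mul_right _ hcl

theorem cord_semisimple {g : PG} (h2 : g ^ 2 ≠ 1) {a : PE} (ha : g • a = a) :
    cord g = torusCard (F := F) a := by
  classical
  have hg : g ≠ 1 := fun e => h2 (by rw [e, one_pow])
  obtain ⟨a', b', hab', ha', hb', honly⟩ := two_fixed h2
  obtain ⟨b, hab, hb, honly⟩ : ∃ b : PE, a ≠ b ∧ g • b = b ∧ ∀ c : PE, g • c = c → c = a ∨ c = b := by
    rcases honly a ha with rfl | rfl
    · exact ⟨b', hab', hb', honly⟩
    · exact ⟨a', hab'.symm, ha', fun c hc => (honly c hc).symm⟩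
  have hgood : GoodPair a b := goodPair_of_fixed hg hab ha hb
  rw [← card_torus hgood]
  refine congrArg (fun H : Subgroup PG => Nat.card H) (le_antisymm (fun x hx => ?_) fun x hx => ?_)
  · have hc : Commute x g := mem_C.1 hx
    have h1 : g • (x • a) = x • a := smul_fixed_of_commute hc ha
    have h3 : g • (x • b) = x • b := smul_fixed_of_commute hc hb
    rcases honly _ h1 with e | e
    · refine ⟨e, ?_⟩
      rcases honly _ h3 with e' | e'
      · exact absurd (MulAction.injective x (e.trans e'.symm)) hab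
      · exact e'
    · exfalso
      have e' : x • b = a := by
        rcases honly _ h3 with e' | e'
        · exact e'
        · exact absurd (MulAction.injective x (e.trans e'.symm)) hab
      have hx2 := sq_ne_of_swap hab e e'
      have hx1 : x ≠ 1 := fun h => hab (by rw [h, one_smul] at e; exact e)
      obtain ⟨z, hz, huniq⟩ := rational_of_sq hx1 hx2
      rcases honly _ (huniq _ (smul_fixed_of_commute hc.symm hz) : g • embP 2 z = embP 2 z) with k | k
      · rw [k, e] at hz; exact hab hz.symm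
      · rw [k, e'] at hz; exact hab hz
  · refine mem_C.2 ?_
    haveI := (hP (F := F)).two_cyclic hab
    letI : CommGroup ↥(stabilizer PG a ⊓ stabilizer PG b) := IsCyclic.commGroup
    exact congrArg Subtype.val (mul_comm (⟨x, hx⟩ : ↥(stabilizer PG a ⊓ stabilizer PG b)) ⟨g, ha, hb⟩)

theorem cord_cases {g : PG} (hg : g ≠ 1) :
    cord g = Nat.card F ∨ cord g = Nat.card F - 1 ∨ cord g = Nat.card F + 1 := by
  by_cases h2 : g ^ 2 = 1
  · exact .inl (cord_involution hg h2)
  · obtain ⟨a, b, -, ha, -⟩ := two_fixed h2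
    rw [cord_semisimple h2 ha, torusCard]
    split_ifs
    · exact .inr (.inl rfl)
    · exact .inr (.inr rfl)

theorem sq_ne_one_of_two_fixed {g : PG} (hg : g ≠ 1) {a b : PE} (hab : a ≠ b) (ha : g • a = a)
    (hb : g • b = b) : g ^ 2 ≠ 1 := fun h2 => by
  obtain ⟨z, -, huniq⟩ := rational_of_sq hg h2
  exact hab ((huniq a ha).trans (huniq b hb).symm)

theorem exists_cords (h4 : 4 ≤ Nat.card F) :
    (∃ g : PG, g ≠ 1 ∧ cord g = Nat.card F) ∧ (∃ g : PG, g ≠ 1 ∧ cord g = Nat.card F - 1) ∧
      ∃ g : PG, g ≠ 1 ∧ cord g = Nat.card F + 1 := by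
  classical
  refine ⟨?_, ?_, ?_⟩
  · obtain ⟨u, hu⟩ : {u : PG | u ≠ 1 ∧ u ^ 2 = 1}.Nonempty := by
      apply Set.nonempty_of_ncard_ne_zero
      rw [card_invol]
      exact (Nat.mul_pos (Nat.succ_pos _) (by omega)).ne'
    exact ⟨u, hu.1, cord_involution hu.1 hu.2⟩
  · obtain ⟨a, b, hab, hra⟩ := exists_goodPair (F := F) (p := 2)
    have hc := card_torus hab
    rw [torusCard, if_pos hra] at hc
    haveI : Nontrivial ↥(stabilizer PG a ⊓ stabilizer PG b) :=
      Finite.one_lt_card_iff_nontrivial.1 (by omega)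
    obtain ⟨⟨g, ha, hb⟩, hg⟩ := exists_ne (1 : ↥(stabilizer PG a ⊓ stabilizer PG b))
    have hg1 : g ≠ 1 := fun e => hg (Subtype.ext e)
    refine ⟨g, hg1, ?_⟩
    rw [cord_semisimple (sq_ne_one_of_two_fixed hg1 hab.1 ha hb) ha, torusCard, if_pos hra]
  · obtain ⟨a, ha⟩ : ∃ a : PE, ¬ IsRat a := by
      by_contra hno
      push Not at hno
      have h1 : Nat.card PE ≤ Nat.card (ℙ F (Fin 2 → F)) :=
        Nat.card_le_card_of_surjective (embP (F := F) 2) fun a => hno a
      rw [card_pline_ext, card_proj_line] at h1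
      nlinarith
    haveI : Nontrivial (stabilizer PG a) :=
      Finite.one_lt_card_iff_nontrivial.1 (by rw [card_stab_nonrat ha]; omega)
    obtain ⟨g, hg⟩ := exists_ne (1 : stabilizer PG a)
    have hg1 : (g : PG) ≠ 1 := fun e => hg (Subtype.ext e)
    have h2 : (g : PG) ^ 2 ≠ 1 := fun h2 => by
      obtain ⟨z, -, huniq⟩ := rational_of_sq hg1 h2
      exact ha ⟨z, (huniq a g.2).symm⟩
    refine ⟨g, hg1, ?_⟩
    rw [cord_semisimple h2 g.2, torusCard, if_neg ha]

/-- `PSL₂(F)` is `PGL₂(F)` in characteristic two. -/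
noncomputable def pslEquivPGL :
    Matrix.ProjectiveSpecialLinearGroup (Fin 2) F ≃* PG :=
  MulEquiv.ofBijective (ProjectiveSpecialLinearGroup.toPGL (n := Fin 2) (R := F))
    ⟨ProjectiveSpecialLinearGroup.toPGL_injective,
      MonoidHom.range_eq_top.1 (pslRange_eq_top_of_even (F := F) even_card)⟩

/-- `SL₂(F)` is `PSL₂(F)` in characteristic two. -/
noncomputable def slEquivPSL :
    Matrix.SpecialLinearGroup (Fin 2) F ≃* Matrix.ProjectiveSpecialLinearGroup (Fin 2) F :=
  haveI := Fintype.ofFinite F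
  MulEquiv.ofBijective (QuotientGroup.mk' (Subgroup.center (Matrix.SpecialLinearGroup (Fin 2) F)))
    ((Nat.bijective_iff_surjective_and_card _).2 ⟨QuotientGroup.mk'_surjective _, by
      rw [← card_PGL_eq_card_SL]
      exact (Nat.card_congr (pslEquivPGL (F := F)).toEquiv).symm⟩)

end CfsgLib.ConjRankThree
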