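import Cfsg.Agent.Lib.ConjRankThree.TypeTwo
import Cfsg.Agent.Lib.ConjRankThree.PSLTwo
import Cfsg.Agent.Lib.FgsD.ThreeSizes.NonDivEasy

/-!
# Simple groups with three noncentral class sizes are `PSL₂(2 ^ m)`
-/

set_option autoImplicit false
set_option linter.style.haveILetI false

namespace CfsgLib.ConjRankThree

open CharApps.ClassSizes

universe u

variable {G : Type u} [Group G] [Finite G]

local notation "C(" g ")" => Subgroup.centralizer ({g} : Set G)

/-- Indices and orders of centralisers determine each other. -/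
theorem ncard_index_eq :
    Set.ncard {m : ℕ | ∃ x : G, x ∉ Subgroup.center G ∧ m = C(x).index} =
      Set.ncard {n : ℕ | ∃ x : G, x ∉ Subgroup.center G ∧ cord x = n} := by
  refine Set.ncard_congr (fun m _ => Nat.card G / m) ?_ ?_ ?_
  · rintro m ⟨x, hx, rfl⟩
    exact ⟨x, hx, by
      rw [← C(x).index_mul_card, Nat.mul_div_cancel_left _
        (Nat.pos_of_ne_zero Subgroup.index_ne_zero_of_finite)]⟩
  · rintro m m' ⟨x, -, rfl⟩ ⟨y, -, rfl⟩ h
    exact (Nat.div_eq_iff_eq_of_dvd_dvd Nat.card_pos.ne' C(x).index_dvd_card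
      C(y).index_dvd_card).1 h
  · rintro n ⟨x, hx, rfl⟩
    exact ⟨C(x).index, ⟨x, hx, rfl⟩, by
      rw [← C(x).index_mul_card, Nat.mul_div_cancel_left _
        (Nat.pos_of_ne_zero Subgroup.index_ne_zero_of_finite)]⟩

variable [IsSimpleGroup G]

theorem center_eq_bot (hnc : ¬ IsMulCommutative G) : Subgroup.center G = ⊥ :=
  (IsSimpleGroup.eq_bot_or_eq_top_of_normal _ inferInstance).resolve_right fun h =>
    hnc ⟨⟨fun a b => Subgroup.mem_center_iff.1 (h ▸ Subgroup.mem_top b) a⟩⟩

/-- Centralisers of involutions are abelian. -/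
theorem comm_centralizer_involution (hnc : ¬ IsMulCommutative G)
    (h3 : Set.ncard {n : ℕ | ∃ x : G, x ∉ Subgroup.center G ∧ cord x = n} = 3) {t : G}
    (ht : orderOf t = 2) : IsMulCommutative C(t) := by
  have hZ := center_eq_bot hnc
  have hnp : ¬ (Nat.card G).Prime := fun hp => by
    haveI := Fact.mk hp
    haveI := isCyclic_of_prime_card (α := G) rfl
    exact hnc ⟨⟨fun a b => (IsCyclic.commGroup (α := G)).mul_comm a b⟩⟩
  obtain ⟨a, b, c, hab, hac, hbc, hO⟩ := Set.ncard_eq_three.1 h3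
  have hall : ∀ g : G, g ≠ 1 → cord g = a ∨ cord g = b ∨ cord g = c := fun g hg => by
    have : cord g ∈ ({a, b, c} : Set ℕ) := hO ▸ ⟨g, fun hc => hg (Subgroup.mem_bot.1 (hZ ▸ hc)), rfl⟩
    simpa using this
  have hex : ∀ o ∈ ({a, b, c} : Set ℕ), ∃ g : G, g ≠ 1 ∧ cord g = o := fun o ho => by
    rw [← hO] at ho
    obtain ⟨g, hg, he⟩ := ho
    exact ⟨g, fun e => hg (e ▸ Subgroup.one_mem _), he⟩
  have ha := hex a (by simp)
  have hb := hex b (by simp)
  have hc := hex c (by simp)
  by_cases hdiv : a ∣ b ∨ a ∣ c ∨ b ∣ a ∨ b ∣ c ∨ c ∣ a ∨ c ∣ b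
  · exfalso
    rcases hdiv with h | h | h | h | h | h
    · exact not_dvd_pair hZ hnp h hab hac (fun g hg => by have := hall g hg; tauto) hb hc
    · exact not_dvd_pair hZ hnp h hac hab (fun g hg => by have := hall g hg; tauto) hc hb
    · exact not_dvd_pair hZ hnp h hab.symm hbc (fun g hg => by have := hall g hg; tauto) ha hc
    · exact not_dvd_pair hZ hnp h hbc hab.symm (fun g hg => by have := hall g hg; tauto) hc ha
    · exact not_dvd_pair hZ hnp h hac.symm hbc.symm (fun g hg => by have := hall g hg; tauto) ha hb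
    · exact not_dvd_pair hZ hnp h hbc.symm hac.symm (fun g hg => by have := hall g hg; tauto) hb ha
  refine comm_of_all_rigid (fun u hu => rigid_of_antichain hu fun v hv hdv => ?_) ht
  rcases hall u hu with e | e | e <;> rcases hall v hv with e' | e' | e' <;>
    rw [e, e'] at hdv ⊢ <;> tauto

/-- The forward direction. -/
theorem exists_psl (hnc : ¬ IsMulCommutative G)
    (h3 : Set.ncard {n : ℕ | ∃ x : G, x ∉ Subgroup.center G ∧ cord x = n} = 3) :
    ∃ (m : ℕ) (F : Type) (_ : Field F) (_ : Fintype F), 2 ≤ m ∧ Fintype.card F = 2 ^ m ∧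
      Nonempty (G ≃* Matrix.ProjectiveSpecialLinearGroup (Fin 2) F) := by
  haveI := Fact.mk Nat.prime_two
  have hns : ¬ Group.IsSolvable G := fun h =>
    hnc ⟨⟨IsSimpleGroup.comm_iff_isSolvable.2 h⟩⟩
  have heven : Even (Nat.card G) := by
    rcases Nat.even_or_odd (Nat.card G) with h | h
    · exact h
    · exact absurd (FT.isSolvable_of_odd h) hns
  rcases Cfsg.Agent.S2202.result heven (fun t ht => comm_centralizer_involution hnc h3 ht) with
    h | h | ⟨F, _, _, A, _, _, hF, -, ⟨e⟩⟩
  · obtain ⟨P⟩ : Nonempty (Sylow 2 G) := inferInstance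
    exact absurd (FgsD.ThreeSizes.isSolvable_of_cyclic_sylow_two heven.two_dvd P (h P)) hns
  · obtain ⟨P⟩ : Nonempty (Sylow 2 G) := inferInstance
    exact absurd (FgsD.ThreeSizes.isSolvable_of_normal_sylow_two P (h P)) hns
  haveI := hF
  haveI : Nontrivial (Matrix.SpecialLinearGroup (Fin 2) F × A) := e.symm.toEquiv.nontrivial
  haveI : IsSimpleGroup (Matrix.SpecialLinearGroup (Fin 2) F × A) := IsSimpleGroup.isSimpleGroup_of_surjective e.toMonoidHom e.surjective
  have hA : Subsingleton A := by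
    rcases IsSimpleGroup.eq_bot_or_eq_top_of_normal _
      (MonoidHom.normal_ker (MonoidHom.fst (Matrix.SpecialLinearGroup (Fin 2) F) A)) with h | h
    · refine ⟨fun a b => ?_⟩
      have key : ∀ a : A, a = 1 := fun a => by
        have : ((1, a) : Matrix.SpecialLinearGroup (Fin 2) F × A) ∈
            (MonoidHom.fst (Matrix.SpecialLinearGroup (Fin 2) F) A).ker := rfl
        rw [h, Subgroup.mem_bot] at this
        exact (Prod.ext_iff.1 this).2
      rw [key a, key b]
    · exfalso
      have hsl : ∀ x : Matrix.SpecialLinearGroup (Fin 2) F, x = 1 := fun x => by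
        have : (x, (1 : A)) ∈ (MonoidHom.fst (Matrix.SpecialLinearGroup (Fin 2) F) A).ker :=
          h ▸ Subgroup.mem_top _
        exact this
      refine hnc ⟨⟨fun a b => e.injective ?_⟩⟩
      rw [map_mul, map_mul]
      exact Prod.ext (by simp [hsl]) (mul_comm _ _)
  haveI : Unique A := uniqueOfSubsingleton 1
  let e' : G ≃* Matrix.ProjectiveSpecialLinearGroup (Fin 2) F :=
    (e.trans MulEquiv.prodUnique).trans slEquivPSL
  obtain ⟨m, -, hm⟩ := FiniteField.card F 2
  refine ⟨m, F, inferInstance, inferInstance, ?_, hm, ⟨e'⟩⟩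
  by_contra hlt
  have hm1 : (m : ℕ) = 1 := le_antisymm (by omega) m.2
  have hcard : Nat.card G = 6 := by
    rw [Nat.card_congr (e'.trans pslEquivPGL).toEquiv,
      PSL2.card_pgl_two (Q := 2) (by rw [Nat.card_eq_fintype_card, hm, hm1]; rfl)]
  haveI := Fact.mk Nat.prime_three
  obtain ⟨g, hg⟩ := exists_prime_orderOf_dvd_card' 3 (show 3 ∣ Nat.card G by rw [hcard]; norm_num)
  have hidx : (Subgroup.zpowers g).index = 2 := by
    have := (Subgroup.zpowers g).index_mul_card
    rw [Nat.card_zpowers, hg, hcard] at this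
    omega
  rcases IsSimpleGroup.eq_bot_or_eq_top_of_normal _ (Subgroup.normal_of_index_eq_two hidx) with h | h
  · rw [h, Subgroup.index_bot, hcard] at hidx; omega
  · rw [h, Subgroup.index_top] at hidx; omega

omit [IsSimpleGroup G] in
/-- The converse direction. -/
theorem psl_facts {m : ℕ} {F : Type} [Field F] [Fintype F] (hm : 2 ≤ m)
    (hcard : Fintype.card F = 2 ^ m)
    (e : G ≃* Matrix.ProjectiveSpecialLinearGroup (Fin 2) F) :
    IsSimpleGroup G ∧ ¬ IsMulCommutative G ∧
      Set.ncard {n : ℕ | ∃ x : G, x ∉ Subgroup.center G ∧ cord x = n} = 3 := by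
  haveI := Fact.mk Nat.prime_two
  haveI : CharP F 2 := charP_of_card_eq_prime_pow hcard
  have h4 : 4 ≤ Nat.card F := by
    rw [Nat.card_eq_fintype_card, hcard]
    exact Nat.pow_le_pow_right two_pos hm
  have hsimp := Classical.isSimpleGroup_PSL_fin (F := F) 2 le_rfl fun _ => h4
  haveI : Nontrivial G := e.toEquiv.nontrivial
  have hsG : IsSimpleGroup G := IsSimpleGroup.isSimpleGroup_of_surjective e.symm.toMonoidHom e.symm.surjective
  set f := e.trans (pslEquivPGL (F := F)) with hf
  have hcord : ∀ x : G, cord x = cord (f x) := fun x => by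
    refine Nat.card_congr (f.toEquiv.subtypeEquiv fun y => ?_)
    show y ∈ C(x) ↔ f y ∈ Subgroup.centralizer {f x}
    rw [mem_C, mem_C, commute_iff_eq, commute_iff_eq, ← map_mul, ← map_mul, f.injective.eq_iff]
  have hcG : Nat.card G = (Nat.card F + 1) * (Nat.card F * (Nat.card F - 1)) := by
    rw [Nat.card_congr f.toEquiv, PSL2.card_pgl_two rfl]
  obtain ⟨⟨u, hu, hu'⟩, ⟨s, hs, hs'⟩, ⟨n, hn, hn'⟩⟩ := exists_cords (F := F) h4
  have hbig : Nat.card F + 1 < (Nat.card F + 1) * (Nat.card F * (Nat.card F - 1)) :=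
    lt_mul_of_one_lt_right (Nat.succ_pos _) (by
      have : 4 * 1 ≤ Nat.card F * (Nat.card F - 1) := Nat.mul_le_mul h4 (by omega)
      omega)
  have hcases : ∀ x : G, x ≠ 1 → cord x = Nat.card F ∨ cord x = Nat.card F - 1 ∨ cord x = Nat.card F + 1 :=
    fun x hx => by rw [hcord]; exact cord_cases (fun h => hx (f.injective (h.trans (map_one f).symm)))
  have hcentre : ∀ x : G, x ∈ Subgroup.center G → x = 1 := fun x hx => by
    by_contra hx1
    have h1 : cord x = Nat.card G := by
      rw [cord, C_eq_top_iff.2 hx, Subgroup.card_top]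
    have := hcases x hx1
    omega
  refine ⟨hsG, fun hc => ?_, ?_⟩
  · have : f.symm u ≠ 1 := fun h => hu (by rw [← f.apply_symm_apply u, h, map_one])
    exact this (hcentre _ (Subgroup.mem_center_iff.2 fun y => hc.is_comm.comm _ _))
  · rw [Set.ncard_eq_three]
    refine ⟨Nat.card F, Nat.card F - 1, Nat.card F + 1, by omega, by omega, by omega, ?_⟩
    ext k
    simp only [Set.mem_ofPred_eq, Set.mem_insert_iff, Set.mem_singleton_iff]
    constructor
    · rintro ⟨x, hx, rfl⟩
      exact hcases x fun h => hx (h ▸ Subgroup.one_mem _)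
    · have key : ∀ g : Matrix.ProjGenLinGroup (Fin 2) F, g ≠ 1 → ∃ x : G, x ∉ Subgroup.center G ∧ cord x = cord g := fun g hg =>
        ⟨f.symm g, fun h => hg (by rw [← f.apply_symm_apply g, hcentre _ h, map_one]),
          by rw [hcord, f.apply_symm_apply]⟩
      rintro (rfl | rfl | rfl)
      · exact hu' ▸ key u hu
      · exact hs' ▸ key s hs
      · exact hn' ▸ key n hn

end CfsgLib.ConjRankThree
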