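import Cfsg.Agent.Lib.ConjRankThree.Basic
import Cfsg.Agent.Lib.ConjRankThree.Bound
import Cfsg.Agent.Lib.Base.FPF

/-!
# Three centraliser orders, one dividing another: no simple group
-/

set_option autoImplicit false
set_option linter.style.haveILetI false

namespace CfsgLib.ConjRankThree

open CharApps.ClassSizes
open scoped Pointwise

universe u

variable {G : Type u} [Group G] [Finite G] [IsSimpleGroup G]

local notation "C(" g ")" => Subgroup.centralizer ({g} : Set G)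

omit [IsSimpleGroup G] in
/-- Some centraliser contains a Sylow subgroup. -/
theorem exists_full {q n : ℕ} (hq : q.Prime) (hn : q ^ n ∣ Nat.card G) (hn0 : n ≠ 0) :
    ∃ z : G, z ≠ 1 ∧ q ^ n ∣ cord z := by
  haveI := Fact.mk hq
  obtain ⟨P⟩ : Nonempty (Sylow q G) := inferInstance
  have hd : q ^ n ∣ Nat.card (P : Subgroup G) := P.pow_dvd_card_of_pow_dvd_card hn
  haveI : Nontrivial (P : Subgroup G) := by
    rw [← Finite.one_lt_card_iff_nontrivial]
    exact lt_of_lt_of_le (Nat.one_lt_pow hn0 hq.one_lt) (Nat.le_of_dvd Nat.card_pos hd)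
  haveI := P.isPGroup'.center_nontrivial
  obtain ⟨z, hz⟩ := exists_ne (1 : Subgroup.center (P : Subgroup G))
  refine ⟨(z.1 : G), fun e => hz (Subtype.ext (Subtype.ext e)),
    hd.trans (Subgroup.card_dvd_of_le fun g hg => mem_C.2 ?_)⟩
  exact congrArg Subtype.val (Subgroup.mem_center_iff.1 z.2 ⟨g, hg⟩)

omit [IsSimpleGroup G] in
/-- Two subgroups with lcm of orders the group order factorise the group. -/
theorem factor (X W : Subgroup G) (hl : (Nat.card X).lcm (Nat.card W) = Nat.card G) :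
    Nat.card (X ⊓ W : Subgroup G) = (Nat.card X).gcd (Nat.card W) ∧
      ∀ g : G, ∃ y ∈ X, ∃ v ∈ W, g = y * v := by
  have hgcd : (Nat.card X).gcd (Nat.card W) * Nat.card G = Nat.card X * Nat.card W := by
    rw [← hl, Nat.gcd_mul_lcm]
  have hk := (X ⊓ W).index_mul_card
  have hX := X.index_mul_card
  have hW := W.index_mul_card
  set k := Nat.card (X ⊓ W : Subgroup G) with hkdef
  have hG : 0 < Nat.card G := Nat.card_pos
  have hkX : k ∣ Nat.card X := Subgroup.card_dvd_of_le inf_le_left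
  have hkW : k ∣ Nat.card W := Subgroup.card_dvd_of_le inf_le_right
  have hk0 : 0 < k := Nat.card_pos
  have h1 : (Nat.card X).gcd (Nat.card W) ≤ k := by
    refine Nat.le_of_mul_le_mul_right ?_ hG
    have h := Subgroup.index_inf_le (H := X) (K := W)
    calc (Nat.card X).gcd (Nat.card W) * Nat.card G = Nat.card X * Nat.card W := hgcd
      _ ≤ k * Nat.card G := by
        refine Nat.le_of_mul_le_mul_left (?_ : (X ⊓ W).index * _ ≤ (X ⊓ W).index * _)
          (Nat.pos_of_ne_zero Subgroup.index_ne_zero_of_finite)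
        calc (X ⊓ W).index * (Nat.card X * Nat.card W)
            ≤ X.index * W.index * (Nat.card X * Nat.card W) := Nat.mul_le_mul_right _ h
          _ = (X.index * Nat.card X) * (W.index * Nat.card W) := by ring
          _ = _ := by rw [hX, hW, ← mul_assoc, hk]
  have heq : k = (Nat.card X).gcd (Nat.card W) :=
    le_antisymm (Nat.le_of_dvd (Nat.gcd_pos_of_pos_left _ Nat.card_pos) (Nat.dvd_gcd hkX hkW)) h1
  refine ⟨heq, fun g => ?_⟩
  let T : X × W → G := fun p => p.1 * p.2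
  have hfib : ∀ p q : X × W, T p = T q → (q.1 : G)⁻¹ * p.1 ∈ X ⊓ W := by
    intro p q h
    refine Subgroup.mem_inf.2 ⟨X.mul_mem (X.inv_mem q.1.2) p.1.2, ?_⟩
    have : (q.1 : G)⁻¹ * p.1 = q.2 * (p.2 : G)⁻¹ := by
      rw [eq_mul_inv_iff_mul_eq, mul_assoc, inv_mul_eq_iff_eq_mul]; exact h
    rw [this]; exact W.mul_mem q.2.2 (W.inv_mem p.2.2)
  classical
  let S : X × W → Set.range T × (X ⊓ W : Subgroup G) := fun p =>
    (⟨T p, p, rfl⟩, ⟨_, hfib p (Exists.choose (⟨p, rfl⟩ : ∃ q, T q = T p))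
      (Exists.choose_spec (⟨p, rfl⟩ : ∃ q, T q = T p)).symm⟩)
  have hS : Function.Injective S := by
    intro p q h
    have h1 : T p = T q := congrArg (fun r => (r.1 : G)) h
    have h2 : ((Exists.choose (⟨p, rfl⟩ : ∃ r, T r = T p)).1 : G)⁻¹ * p.1 =
        ((Exists.choose (⟨q, rfl⟩ : ∃ r, T r = T q)).1 : G)⁻¹ * q.1 :=
      congrArg (fun r => (r.2 : G)) h
    simp only [h1] at h2
    have h3 : p.1 = q.1 := Subtype.ext (mul_left_cancel h2)
    refine Prod.ext h3 (Subtype.ext ?_)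
    have h4 : (p.1 : G) * p.2 = q.1 * q.2 := h1
    rw [h3] at h4
    exact mul_left_cancel h4
  have hle := Nat.card_le_card_of_injective S hS
  rw [Nat.card_prod, Nat.card_prod, ← hgcd, ← heq, hkdef, mul_comm k] at hle
  have hrange : Set.range T = Set.univ :=
    (Set.eq_univ_iff_ncard _).2 (le_antisymm (Set.ncard_le_card _) (by
      rw [← Nat.card_coe_set_eq]; exact Nat.le_of_mul_le_mul_right hle hk0))
  obtain ⟨p, hp⟩ := (hrange ▸ Set.mem_univ g : g ∈ Set.range T)
  exact ⟨_, p.1.2, _, p.2.2, hp.symm⟩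

omit [IsSimpleGroup G] [Finite G] in
theorem conj_classProd {x w : G} (h : ∀ g : G, ∃ y ∈ C(x), ∃ v ∈ C(w), g = y * v) (g k : G) :
    IsConj (x * w) (g * x * g⁻¹ * (k * w * k⁻¹)) := by
  obtain ⟨y, hy, v, hv, hyv⟩ := h (g⁻¹ * k)
  have hk : k = g * y * v := by rw [mul_assoc, ← hyv, mul_inv_cancel_left]
  refine isConj_iff.2 ⟨g * y, ?_⟩
  have h1 : y * x * y⁻¹ = x := mul_inv_eq_iff_eq_mul.2 (mem_C.1 hy).eq
  have h2 : v * w * v⁻¹ = w := mul_inv_eq_iff_eq_mul.2 (mem_C.1 hv).eq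
  calc g * y * (x * w) * (g * y)⁻¹ = g * (y * x * y⁻¹) * g⁻¹ * (g * y * w * y⁻¹ * g⁻¹) := by group
    _ = g * x * g⁻¹ * (g * y * (v * w * v⁻¹) * y⁻¹ * g⁻¹) := by rw [h1, h2]
    _ = _ := by rw [hk]; group

/-- A non-abelian simple group cannot have centraliser orders `b ∣ a` and one more. -/
theorem not_dvd_pair (hZ : Subgroup.center G = ⊥) (hnp : ¬ (Nat.card G).Prime) {a b c : ℕ}
    (hb : b ∣ a) (hba : b ≠ a) (hbc : b ≠ c)
    (hall : ∀ g : G, g ≠ 1 → cord g = a ∨ cord g = b ∨ cord g = c)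
    (hxa : ∃ x : G, x ≠ 1 ∧ cord x = a) (hwc : ∃ w : G, w ≠ 1 ∧ cord w = c) : False := by
  classical
  letI := Fintype.ofFinite G
  obtain ⟨x, hx1, hxa⟩ := hxa
  have hnc : ∀ g : G, g ≠ 1 → g ∉ Subgroup.center G := fun g hg h =>
    hg (Subgroup.mem_bot.1 (hZ ▸ h))
  have hlt : ∀ g : G, g ≠ 1 → cord g ≠ Nat.card G := fun g hg he =>
    hnc g hg (C_eq_top_iff.1 (Subgroup.eq_top_of_card_eq _ he))
  have hGl : a.lcm c = Nat.card G := by
    obtain ⟨w, -, hwc'⟩ := hwc
    refine Nat.dvd_antisymm (Nat.lcm_dvd (hxa ▸ C(x).card_subgroup_dvd_card)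
      (hwc' ▸ C(w).card_subgroup_dvd_card))
      ((Nat.dvd_iff_prime_pow_dvd_dvd _ _).2 fun q n hq hn => ?_)
    rcases eq_or_ne n 0 with rfl | hn0
    · simp
    obtain ⟨z, hz1, hz⟩ := exists_full hq hn hn0
    rcases hall z hz1 with e | e | e <;> rw [e] at hz
    · exact hz.trans (Nat.dvd_lcm_left _ _)
    · exact (hz.trans hb).trans (Nat.dvd_lcm_left _ _)
    · exact hz.trans (Nat.dvd_lcm_right _ _)
  have hac : ¬ a ∣ c := fun h => by
    obtain ⟨w, hw1, hwc⟩ := hwc
    exact hlt w hw1 (hwc.trans ((Nat.lcm_eq_right h).symm.trans hGl))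
  have hca : ¬ c ∣ a := fun h => hlt x hx1 (hxa.trans ((Nat.lcm_eq_left h).symm.trans hGl))
  have hcb : ¬ c ∣ b := fun h => hca (h.trans hb)
  have hac' : a ≠ c := fun e => hac (e ▸ dvd_rfl)
  -- pairs
  have pair : ∀ x w : G, x ≠ 1 → w ≠ 1 → cord x = a → cord w = c →
      Nat.card (C(x) ⊓ C(w) : Subgroup G) = a.gcd c ∧
        (∀ g : G, ∃ y ∈ C(x), ∃ v ∈ C(w), g = y * v) ∧ cord (x * w) = b := by
    intro x w hx hw hxa hwc
    obtain ⟨hh, hf⟩ := factor C(x) C(w) (by
      show (cord x).lcm (cord w) = _; rw [hxa, hwc, hGl])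
    have hh' : Nat.card (C(x) ⊓ C(w) : Subgroup G) = a.gcd c := by
      rw [hh]; show (cord x).gcd (cord w) = _; rw [hxa, hwc]
    refine ⟨hh', hf, ?_⟩
    have hne : x * w ≠ 1 := fun e => hac' (by
      rw [← hxa, ← hwc, eq_inv_of_mul_eq_one_left e]
      refine congrArg (fun H : Subgroup G => Nat.card H) ?_
      ext g
      rw [mem_C, mem_C]
      exact Commute.inv_right_iff)
    have hswap : ∀ g h : G, IsConj (w * x) (g * w * g⁻¹ * (h * x * h⁻¹)) := fun g h => by
      refine ((isConj_iff.2 ⟨w, by group⟩ : IsConj (x * w) (w * x)).symm).trans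
        ((conj_classProd hf h g).trans ?_)
      exact isConj_iff.2 ⟨(h * x * h⁻¹)⁻¹, by group⟩
    rcases hall (x * w) hne with h1 | h1 | h1
    · exact absurd (h1.trans hxa.symm) (cord_mul_ne hx (hnc w hw) (conj_classProd hf))
    · exact h1
    · exact absurd ((cord_eq_of_isConj (isConj_iff.2 ⟨w, by group⟩)).symm.trans (h1.trans hwc.symm))
        (cord_mul_ne hw (hnc x hx) hswap)
  obtain ⟨w₀, hw₀1, hw₀c⟩ := hwc
  obtain ⟨hh₀, hf₀, hd₀⟩ := pair x w₀ hx1 hw₀1 hxa hw₀c
  have hinfle : C(x) ⊓ C(w₀) ≤ C(x * w₀) := fun g hg =>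
    mem_C.2 ((mem_C.1 hg.1).mul_right (mem_C.1 hg.2))
  have hbnc : ¬ b ∣ c := by
    intro hbdc
    have heq : C(x) ⊓ C(w₀) = C(x * w₀) := Subgroup.eq_of_le_of_card_ge hinfle (by
      rw [hh₀]
      refine (le_of_eq hd₀).trans (Nat.le_of_dvd ?_ (Nat.dvd_gcd hb hbdc))
      rw [← hh₀]; exact Nat.card_pos)
    have hd : x * w₀ ∈ C(x) ⊓ C(w₀) := heq.symm ▸ self_mem_C _
    have hxW : x ∈ C(w₀) := by simpa using C(w₀).mul_mem hd.2 (C(w₀).inv_mem (self_mem_C w₀))
    have hle : Subgroup.normalClosure ({x} : Set G) ≤ C(w₀) := by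
      refine (Subgroup.closure_le _).2 ?_
      intro g hg
      obtain ⟨_, hs, hc⟩ := Group.mem_conjugatesOfSet_iff.1 hg
      rw [Set.mem_singleton_iff] at hs
      rw [hs] at hc
      obtain ⟨k, rfl⟩ := isConj_iff.1 hc
      obtain ⟨y, hy, v, hv, hk⟩ := hf₀ k⁻¹
      rw [show k = v⁻¹ * y⁻¹ by rw [← mul_inv_rev, ← hk, inv_inv],
        show v⁻¹ * y⁻¹ * x * (v⁻¹ * y⁻¹)⁻¹ = v⁻¹ * (y⁻¹ * x * y) * v by group,
        show y⁻¹ * x * y = x by rw [mul_assoc, ← (mem_C.1 hy).eq, inv_mul_cancel_left]]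
      exact C(w₀).mul_mem (C(w₀).mul_mem (C(w₀).inv_mem hv) hxW) hv
    rcases IsSimpleGroup.eq_bot_or_eq_top_of_normal _
      (Subgroup.normalClosure_normal (s := ({x} : Set G))) with h | h
    · exact hx1 (Subgroup.mem_bot.1 (h ▸ Subgroup.subset_normalClosure rfl))
    · exact hnc w₀ hw₀1 (C_eq_top_iff.1 (top_le_iff.1 (h ▸ hle)))
  have hrig : ∀ u : G, u ≠ 1 → cord u = c → Rigid u := fun u hu huc =>
    rigid_of_antichain hu fun v hv hdv => by
      rw [huc] at hdv ⊢
      rcases hall v hv with e | e | e <;> rw [e] at hdv ⊢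
      · exact absurd hdv (not_or.2 ⟨hca, hac⟩)
      · exact absurd hdv (not_or.2 ⟨hcb, hbnc⟩)
  obtain ⟨w, hw1, hwc, p, hp, hwp⟩ : ∃ w : G, w ≠ 1 ∧ cord w = c ∧ ∃ p, p.Prime ∧ orderOf w = p := by
    obtain ⟨p, hp, hpd⟩ := Nat.exists_prime_and_dvd (fun e => hw₀1 (orderOf_eq_one_iff.1 e))
    have ho := orderOf_pow_orderOf_div (orderOf_pos w₀).ne' hpd
    have hne : w₀ ^ (orderOf w₀ / p) ≠ 1 := fun e => hp.one_lt.ne' (by
      rw [← ho, e, orderOf_one])
    exact ⟨_, hne, (congrArg (fun H : Subgroup G => Nat.card H)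
      ((hrig w₀ hw₀1 hw₀c).2.1 _ hne (C_le_C_pow w₀ _))).trans hw₀c, p, hp, ho⟩
  have hh : ∀ x w : G, x ≠ 1 → w ≠ 1 → cord x = a → cord w = c → a.gcd c * Nat.card G = a * c :=
    fun _ _ _ _ _ _ => by rw [← hGl, Nat.gcd_mul_lcm]
  have hnotp : ¬ IsPGroup p C(w) := fun hP => by
    haveI := Fact.mk hp
    obtain ⟨k, hk⟩ := IsPGroup.iff_card.1 hP
    have hidx : C(x).index ∣ c := by
      refine Dvd.intro_left (a.gcd c) (Nat.eq_of_mul_eq_mul_right (Nat.card_pos (α := C(x))) ?_)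
      rw [mul_assoc, C(x).index_mul_card, show Nat.card C(x) = a from hxa,
        hh x w hx1 hw1 hxa hwc, mul_comm]
    rw [← hwc, show cord w = p ^ k from hk] at hidx
    obtain ⟨j, -, hj⟩ := (Nat.dvd_prime_pow hp).1 hidx
    exact hnp (Chars.prime_card_of_class_prime_pow p j hp x hx1 hj)
  haveI hcomm := (comm_or_isPGroup hp hwp (hrig w hw1 hwc)).resolve_right hnotp
  set A : Subgroup G := C(w) with hAdef
  have hTI : ∀ u ∈ A, u ≠ 1 → C(u) = A := fun u hu hu1 =>
    (hrig w hw1 hwc).2.1 u hu1 fun g hg => mem_C.2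
      (congrArg Subtype.val (hcomm.is_comm.comm ⟨g, hg⟩ ⟨u, hu⟩))
  have hAc : Nat.card A = c := hwc
  have hcu : ∀ u ∈ A, u ≠ 1 → cord u = c := fun u hu hu1 =>
    (congrArg (fun H : Subgroup G => Nat.card H) (hTI u hu hu1)).trans hAc
  have hxA : x ∉ A := fun hm => hac' (hxa.symm.trans (hcu x hm hx1))
  have hinf : C(x) ⊓ A = ⊥ := (Subgroup.eq_bot_iff_forall _).2 fun u hu => by
    by_contra hu1
    exact hxA (hTI u hu.2 hu1 ▸ mem_C.2 (mem_C.1 hu.1).symm)
  have hcop : a.gcd c = 1 := by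
    rw [← (pair x w hx1 hw1 hxa hwc).1, ← hAdef, hinf, Subgroup.card_bot]
  have hG : Nat.card G = a * c := by
    rw [← hh x w hx1 hw1 hxa hwc, hcop, one_mul]
  have hidxA : A.index = a := Nat.eq_of_mul_eq_mul_right (Nat.card_pos (α := A))
    (by rw [A.index_mul_card, hG, hAc])
  set N : Subgroup G := Subgroup.normalizer (A : Set G) with hNdef
  have hAN : A ≤ N := Subgroup.le_normalizer
  have hedvd : A.relIndex N ∣ a := hidxA ▸ Subgroup.relIndex_dvd_index_of_le hAN
  have hc1 : 1 < c := by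
    rw [← hAc, Finite.one_lt_card_iff_nontrivial, Subgroup.nontrivial_iff_ne_bot]
    exact fun h => hw1 (Subgroup.mem_bot.1 (h ▸ self_mem_C w))
  have hAne : A ≠ N := by
    intro hAN'
    obtain ⟨r, hr, hrc⟩ := Nat.exists_prime_and_dvd hc1.ne'
    haveI := Fact.mk hr
    obtain ⟨R⟩ : Nonempty (Sylow r A) := inferInstance
    have hfac : (Nat.card G).factorization r = (Nat.card A).factorization r := by
      have ha0 : a ≠ 0 := hxa ▸ Nat.card_pos.ne'
      rw [hG, hAc, Nat.factorization_mul ha0 (by omega), Finsupp.add_apply,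
        Nat.factorization_eq_zero_of_not_dvd (n := a) (fun hra => hr.one_lt.ne'
          (Nat.dvd_one.1 (hcop ▸ Nat.dvd_gcd hra hrc))), zero_add]
    have hPcard : Nat.card ((R : Subgroup A).map A.subtype) =
        r ^ (Nat.card G).factorization r := by
      rw [Subgroup.card_subtype, hfac, R.card_eq_multiplicity]
    let P : Sylow r G := Sylow.ofCard _ hPcard
    have hPA : (P : Subgroup G) ≤ A := by
      show (R : Subgroup A).map A.subtype ≤ A
      exact Subgroup.map_subtype_le _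
    have hPne : (P : Subgroup G) ≠ ⊥ := P.ne_bot_of_dvd_card (hG ▸ dvd_mul_of_dvd_right hrc a)
    have hnorm : Subgroup.normalizer ((P : Subgroup G) : Set G) ≤
        Subgroup.centralizer ((P : Subgroup G) : Set G) := by
      obtain ⟨u, hu, hu1⟩ := (Subgroup.bot_or_exists_ne_one _).resolve_left hPne
      intro g hg
      have hgN : g ∈ A := hAN'.symm ▸ mem_normalizer_of_fusion hTI (hPA hu) hu1
        (hPA (by simpa using (Subgroup.mem_normalizer_iff.1 (inv_mem hg) u).1 hu))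
      exact Subgroup.mem_centralizer_iff.2 fun y hy =>
        congrArg Subtype.val (hcomm.is_comm.comm ⟨y, hPA hy⟩ ⟨g, hgN⟩)
    have hcompl := MonoidHom.ker_transferSylow_isComplement' P hnorm
    rcases IsSimpleGroup.eq_bot_or_eq_top_of_normal _
      (MonoidHom.normal_ker (MonoidHom.transferSylow P hnorm)) with h | h
    · rw [h, Subgroup.isComplement'_bot_left] at hcompl
      exact hxA (hPA (hcompl ▸ Subgroup.mem_top x))
    · rw [h, Subgroup.isComplement'_top_left] at hcompl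
      exact hPne hcompl
  obtain ⟨E', hE'⟩ := Subgroup.exists_right_complement'_of_coprime (N := A.subgroupOf N) (by
    rw [Nat.card_congr (Subgroup.subgroupOfEquivOfLe hAN).toEquiv, hAc]
    exact Nat.Coprime.coprime_dvd_right hedvd (Nat.Coprime.symm hcop))
  set E : Subgroup G := E'.map N.subtype with hEdef
  have hEN : E ≤ N := Subgroup.map_subtype_le _
  have hEcard : Nat.card E = A.relIndex N := by
    rw [hEdef, Subgroup.card_subtype]
    exact Nat.eq_of_mul_eq_mul_left Nat.card_pos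
      ((Subgroup.IsComplement'.card_mul_card hE').trans
        (((mul_comm (A.subgroupOf N).index _).symm.trans (A.subgroupOf N).index_mul_card).symm))
  have hEA : ∀ g ∈ E, g ∈ A → g = 1 := by
    rintro g ⟨g', hg', rfl⟩ hgA
    exact congrArg Subtype.val (Subgroup.mem_bot.1 (hE'.disjoint.le_bot
      ⟨show g' ∈ A.subgroupOf N from hgA, hg'⟩))
  have hout : ∀ g ∈ N, g ∉ A → cord g = b := by
    intro g hg hgA
    have hg1 : g ≠ 1 := fun e => hgA (e ▸ one_mem A)
    have hconj : ∀ u ∈ A, IsConj (g * u) g := by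
      have hinj : Function.Injective fun v : A =>
          (⟨g⁻¹ * v * g * (v : G)⁻¹, mul_mem (by
            simpa using (Subgroup.mem_normalizer_iff.1 (inv_mem hg) (v : G)).1 v.2)
              (inv_mem v.2)⟩ : A) := by
        intro v v' hvv
        have h : g⁻¹ * v * g * (v : G)⁻¹ = g⁻¹ * v' * g * (v' : G)⁻¹ := congrArg Subtype.val hvv
        have h' : (v : G) * g * (v : G)⁻¹ = v' * g * (v' : G)⁻¹ := by
          simpa [mul_assoc] using congrArg (fun t => g * t) h
        have hm : (v' : G)⁻¹ * v ∈ C(g) := mem_C.2 (by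
          show (v' : G)⁻¹ * v * g = g * ((v' : G)⁻¹ * v)
          calc (v' : G)⁻¹ * v * g = (v' : G)⁻¹ * (v * g * (v : G)⁻¹) * v := by group
            _ = _ := by rw [h']; group)
        by_contra hne
        have hne' : (v' : G)⁻¹ * v ≠ 1 := fun e => hne (Subtype.ext (inv_mul_eq_one.1 e).symm)
        exact hgA ((hTI _ (mul_mem (inv_mem v'.2) v.2) hne') ▸ mem_C.2 (mem_C.1 hm).symm)
      intro u hu
      obtain ⟨v, hv⟩ := (Finite.injective_iff_bijective.1 hinj).surjective ⟨u, hu⟩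
      have hv' : g⁻¹ * v * g * (v : G)⁻¹ = u := congrArg Subtype.val hv
      exact (isConj_iff.2 ⟨(v : G), by rw [← hv']; group⟩ : IsConj g (g * u)).symm
    rcases hall g hg1 with e | e | e
    · exact absurd (cord_eq_of_isConj (hconj w (self_mem_C w))) (cord_mul_ne hg1 (hnc w hw1)
        (conj_classProd (pair g w hg1 hw1 e hwc).2.1))
    · exact e
    · exfalso
      have hdvd : orderOf g ∣ c := e ▸ Subgroup.orderOf_dvd_natCard C(g) (self_mem_C g)
      haveI : (A.subgroupOf N).Normal := Subgroup.normal_in_normalizer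
      have hpow : g ^ A.relIndex N ∈ A :=
        (A.subgroupOf N).pow_index_mem (⟨g, hg⟩ : N)
      obtain ⟨j, hj⟩ := exists_pow_eq_self_of_coprime
        (((Nat.Coprime.coprime_dvd_left hedvd hcop).coprime_dvd_right hdvd))
      exact hgA (hj ▸ pow_mem hpow j)
  have hfpf : Base.IsFPF E A := ⟨hEN, fun g hg hg1 => (Subgroup.eq_bot_iff_forall _).2 fun u hu => by
    by_contra hu1
    exact hg1 (hEA g hg (hTI u hu.1 hu1 ▸ mem_C.2 (mem_C.1 hu.2).symm))⟩
  have hEne : E ≠ ⊥ := fun h => hAne (le_antisymm hAN (Subgroup.relIndex_eq_one.1 (by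
    rw [← hEcard, h, Subgroup.card_bot])))
  have hAbot : A ≠ ⊥ := fun h => hw1 (Subgroup.mem_bot.1 (h ▸ self_mem_C w))
  haveI : Nontrivial (Subgroup.center E) :=
    (Subgroup.nontrivial_iff_ne_bot _).2 (hfpf.center_ne_bot hAbot hEne)
  obtain ⟨r, hr, hrd⟩ := Nat.exists_prime_and_dvd
    (Finite.one_lt_card (α := Subgroup.center E)).ne'
  haveI := Fact.mk hr
  obtain ⟨z', hz'⟩ := exists_prime_orderOf_dvd_card' r hrd
  set z : G := ((z'.1 : E) : G) with hzdef
  have hzo : orderOf z = r := by rw [hzdef, Subgroup.orderOf_coe, Subgroup.orderOf_coe, hz']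
  have hz1 : z ≠ 1 := fun e => hr.one_lt.ne' (by rw [← hzo, e, orderOf_one])
  have hzE : z ∈ E := z'.1.2
  have hzA : z ∉ A := fun h => hz1 (hEA z hzE h)
  have hzb : cord z = b := hout z (hEN hzE) hzA
  have hra : r ∣ a := (hrd.trans (Subgroup.card_subgroup_dvd_card _)).trans
    (hEcard ▸ hedvd)
  obtain ⟨S⟩ : Nonempty (Sylow r C(x)) := inferInstance
  have hScard : Nat.card ((S : Subgroup C(x)).map C(x).subtype) =
      r ^ (Nat.card G).factorization r := by
    rw [Subgroup.card_subtype, S.card_eq_multiplicity, hG,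
      Nat.factorization_mul (hxa ▸ Nat.card_pos.ne') (by omega), Finsupp.add_apply,
      Nat.factorization_eq_zero_of_not_dvd (n := c) (fun hrc => hr.one_lt.ne'
        (Nat.dvd_one.1 (hcop ▸ Nat.dvd_gcd hra hrc))), add_zero, ← hxa]
  let P' : Sylow r G := Sylow.ofCard _ hScard
  obtain ⟨P, hP⟩ := (IsPGroup.of_card (n := 1) (by
    rw [Nat.card_zpowers, hzo, pow_one]) : IsPGroup r (Subgroup.zpowers z)).exists_le_sylow
  obtain ⟨k, hk⟩ := MulAction.exists_smul_eq G P P'
  have hzx : k * z * k⁻¹ ∈ C(x) := by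
    have : k * z * k⁻¹ ∈ (P' : Subgroup G) := by
      rw [← hk, Sylow.coe_subgroup_smul, Subgroup.mem_pointwise_smul_iff_inv_smul_mem]
      simpa [MulAut.smul_def, mul_assoc] using hP (Subgroup.mem_zpowers z)
    exact Subgroup.map_subtype_le _ this
  set x' := k⁻¹ * x * k with hx'def
  have hx'a : cord x' = a := (cord_eq_of_isConj (isConj_iff.2 ⟨k, by simp [hx'def, mul_assoc]⟩ :
    IsConj x' x)).trans hxa
  have hx'1 : x' ≠ 1 := fun e => hx1 (by
    calc x = k * x' * k⁻¹ := by simp [hx'def, mul_assoc]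
      _ = 1 := by rw [e]; simp)
  have hx'z : x' ∈ C(z) := mem_C.2 (by
    show k⁻¹ * x * k * z = z * (k⁻¹ * x * k)
    calc k⁻¹ * x * k * z = k⁻¹ * (x * (k * z * k⁻¹)) * k := by group
      _ = k⁻¹ * ((k * z * k⁻¹) * x) * k := by rw [(mem_C.1 hzx).symm.eq]
      _ = _ := by group)
  have hx'E : x' ∉ E := fun h => hba ((hout x' (hEN h) fun hA' =>
    hx'1 (hEA x' h hA')).symm.trans hx'a)
  have hEz : E ≤ C(z) := fun g hg => mem_C.2
    (congrArg Subtype.val (Subgroup.mem_center_iff.1 z'.2 ⟨g, hg⟩))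
  have hEdvd : A.relIndex N ∣ b := by
    have := Subgroup.card_dvd_of_le hEz
    rwa [hEcard, show Nat.card C(z) = b from hzb] at this
  have hbne : b ≠ A.relIndex N := fun h => hx'E (by
    have : E = C(z) := Subgroup.eq_of_le_of_card_ge hEz (by
      rw [hEcard, show Nat.card C(z) = b from hzb, h])
    exact this ▸ hx'z)
  have hbound : b ≤ A.relIndex N + 1 := by
    rw [← (pair x w hx1 hw1 hxa hwc).2.2]
    refine card_centralizer_le hTI (self_mem_C w) hw1 (hAc.symm ▸ hxa.symm ▸ hac' : cord x ≠ _)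
      (fun u hu hu1 => ?_) (fun u hu hu1 h => ?_)
    · rw [hAc]
      show cord (x * u) ≠ c
      rw [(pair x u hx1 hu1 hxa (hcu u hu hu1)).2.2]
      exact hbc
    · simpa using conj_classProd (pair x u hx1 hu1 hxa (hcu u hu hu1)).2.1 1 h
  have he1 : A.relIndex N ≠ 1 := fun h => hAne (le_antisymm hAN (Subgroup.relIndex_eq_one.1 h))
  have hb0 : 0 < b := hzb ▸ Nat.card_pos
  obtain ⟨m, hm⟩ := hEdvd
  rcases m with _ | _ | m
  · simp [hm] at hb0
  · exact hbne (by simpa using hm)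
  · have : A.relIndex N ≠ 0 := fun h => by simp [hm, h] at hb0
    have : A.relIndex N * 2 ≤ A.relIndex N * (m + 1 + 1) := Nat.mul_le_mul_left _ (by omega)
    omega

end CfsgLib.ConjRankThree
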